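import Groth.Agent.Lib.Lambda.Chern
import Groth.Agent.Lib.Lambda.Filt
import Groth.Agent.Lib.Lambda.Involution
import Mathlib.RingTheory.PowerSeries.Exp
import Mathlib.NumberTheory.Bernoulli

/-!
# `td(e) · ch(λ_{-1}(e^∨)) = c_m(e)`

The identity is checked on formal roots, in `ℚ[u_1, …, u_m]` modulo degree `> d`.
-/

set_option autoImplicit false
set_option backward.isDefEq.respectTransparency false
set_option maxHeartbeats 800000
set_option synthInstance.maxHeartbeats 200000

universe u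

open LambdaRing Finset

noncomputable section

namespace GrothLib.Lambda.ToddTop20

attribute [local instance] intBinomialOps

section Ev

variable {Q : Type*} [CommRing Q] [Algebra ℚ Q] {v : Q} {d : ℕ}

theorem aeval_eq_sum_of_pow_eq_zero (hv : v ^ (d + 1) = 0) (p : Polynomial ℚ) :
    Polynomial.aeval v p = ∑ k ∈ range (d + 1), p.coeff k • v ^ k := by
  rw [Polynomial.aeval_eq_sum_range' (show p.natDegree < p.natDegree + 1 + (d + 1) by omega)]
  refine (sum_subset (range_mono (by omega)) fun k _ hk => ?_).symm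
  have hk' : d + 1 ≤ k := by simpa using hk
  obtain ⟨r, rfl⟩ := Nat.exists_eq_add_of_le hk'
  rw [pow_add, hv, zero_mul, smul_zero]

/-- Evaluation of a power series at a nilpotent element. -/
def ev (hv : v ^ (d + 1) = 0) : PowerSeries ℚ →+* Q where
  toFun f := ∑ k ∈ range (d + 1), PowerSeries.coeff k f • v ^ k
  map_one' := by simp
  map_zero' := by simp
  map_add' f g := by simp [add_smul, sum_add_distrib]
  map_mul' f g := by
    have h1 : ∀ h : PowerSeries ℚ, ∑ k ∈ range (d + 1), PowerSeries.coeff k h • v ^ k =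
        Polynomial.aeval v (PowerSeries.trunc (d + 1) h) := fun h => by
      rw [aeval_eq_sum_of_pow_eq_zero hv]
      exact sum_congr rfl fun k hk => by rw [PowerSeries.coeff_trunc, if_pos (mem_range.1 hk)]
    rw [h1 f, h1 g, ← map_mul, aeval_eq_sum_of_pow_eq_zero hv]
    refine sum_congr rfl fun k hk => ?_
    have hk' := mem_range.1 hk
    rw [Polynomial.coeff_mul, PowerSeries.coeff_mul]
    congr 1
    refine sum_congr rfl fun x hx => ?_
    have := Finset.mem_antidiagonal.1 hx
    rw [PowerSeries.coeff_trunc, PowerSeries.coeff_trunc, if_pos (by omega), if_pos (by omega)]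

theorem ev_apply (hv : v ^ (d + 1) = 0) (f : PowerSeries ℚ) :
    ev hv f = ∑ k ∈ range (d + 1), PowerSeries.coeff k f • v ^ k := rfl

theorem ev_X (hv : v ^ (d + 1) = 0) : ev hv PowerSeries.X = v := by
  rw [ev_apply]
  rcases Nat.eq_zero_or_pos d with rfl | hd
  · rw [zero_add, pow_one] at hv
    simp [hv]
  · rw [sum_eq_single 1]
    · simp
    · intro b _ hb
      simp [PowerSeries.coeff_X, hb]
    · intro h
      exact absurd (mem_range.2 (by omega)) h

theorem aeval_toddTrunc (hv : v ^ (d + 1) = 0) :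
    Polynomial.aeval v (KGr.toddTrunc d) = ev hv (bernoulli'PowerSeries ℚ) := by
  rw [KGr.toddTrunc, map_sum, ev_apply]
  refine sum_congr rfl fun k _ => ?_
  simp [bernoulli'PowerSeries, Algebra.smul_def]

theorem aeval_toddTrunc_zero (d : ℕ) : Polynomial.aeval (0 : Q) (KGr.toddTrunc d) = 1 := by
  rw [KGr.toddTrunc, map_sum, sum_range_succ', sum_eq_zero fun k _ => by simp]
  simp

theorem ev_rescale (hv : v ^ (d + 1) = 0) (k : ℕ) :
    ev hv (PowerSeries.rescale (k : ℚ) (PowerSeries.exp ℚ)) =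
      1 + ∑ j ∈ range d, ((k : ℚ) ^ (j + 1) / ((j + 1).factorial : ℚ)) • v ^ (j + 1) := by
  rw [ev_apply, sum_range_succ', add_comm]
  congr 1
  · simp
  · refine sum_congr rfl fun j _ => ?_
    simp [PowerSeries.coeff_rescale, div_eq_mul_inv]

end Ev

variable (m d : ℕ)

/-- Polynomials in the Chern classes. -/
abbrev A : Type := MvPolynomial (Fin m) ℚ

/-- The universal Chern sequence. -/
def xs (k : ℕ) : A m :=
  if k = 0 then 1 else if h : k - 1 < m then MvPolynomial.X ⟨k - 1, h⟩ else 0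

theorem xs_zero : xs m 0 = 1 := if_pos rfl

theorem xs_succ {i : ℕ} (h : i < m) : xs m (i + 1) = MvPolynomial.X ⟨i, h⟩ := by
  rw [xs, if_neg (Nat.succ_ne_zero i)]
  simp [h]

theorem xs_of_lt {k : ℕ} (h : m < k) : xs m k = 0 := by
  rw [xs, if_neg (by omega), dif_neg (by omega)]

/-- Truncated polynomials in the roots. -/
abbrev QR : Type := MvPolynomial (Fin m) ℚ ⧸ (wtIdeal (fun _ : Fin m => 1) (d + 1) : Ideal (MvPolynomial (Fin m) ℚ))

/-- The substitution of the elementary symmetric functions. -/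
def toRoots : A m →ₐ[ℚ] MvPolynomial (Fin m) ℚ :=
  MvPolynomial.aeval fun i : Fin m => MvPolynomial.esymm (Fin m) ℚ ((i : ℕ) + 1)

/-- The substitution followed by the truncation. -/
def ψ : A m →ₐ[ℚ] QR m d := (Ideal.Quotient.mkₐ ℚ _).comp (toRoots m)

/-- The roots. -/
def root (i : Fin m) : QR m d := Ideal.Quotient.mk _ (MvPolynomial.X i)

theorem root_pow (i : Fin m) : root m d i ^ (d + 1) = 0 := by
  rw [root, ← map_pow, Ideal.Quotient.eq_zero_iff_mem, MvPolynomial.X_pow_eq_monomial]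
  exact monomial_mem_wtIdeal 1 (by rw [Finsupp.weight_single]; simp)

theorem prod_root_eq_zero (h : d < m) : ∏ i, root m d i = 0 := by
  simp only [root, ← map_prod]
  rw [Ideal.Quotient.eq_zero_iff_mem]
  have := MvPolynomial.IsWeightedHomogeneous.prod (w := fun _ : Fin m => 1) univ
    (fun i : Fin m => (MvPolynomial.X i : MvPolynomial (Fin m) ℚ)) (fun _ => 1)
    fun i _ => MvPolynomial.isWeightedHomogeneous_X ℚ _ i
  exact homogeneous_mem_wtIdeal this (by simp; omega)

theorem ψ_xs (k : ℕ) : ψ m d (xs m k) = ((univ : Finset (Fin m)).val.map (root m d)).esymm k := by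
  have h : toRoots m (xs m k) = ((univ : Finset (Fin m)).val.map MvPolynomial.X).esymm k := by
    rcases Nat.eq_zero_or_pos k with rfl | hk
    · rw [xs_zero, map_one, esymm_zero']
    obtain ⟨i, rfl⟩ : ∃ i, k = i + 1 := ⟨k - 1, by omega⟩
    by_cases h : i < m
    · rw [xs_succ m h, toRoots, MvPolynomial.aeval_X, MvPolynomial.esymm_eq_multiset_esymm]
    · rw [xs_of_lt m (by omega), map_zero, esymm_eq_zero]
      simp only [Multiset.card_map, card_val, card_univ, Fintype.card_fin]
      omega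
  show Ideal.Quotient.mk _ (toRoots m (xs m k)) = _
  rw [h, esymm_map, Multiset.map_map]
  rfl

theorem ψ_psiOf {j : ℕ} (hj : 1 ≤ j) : ψ m d (psiOf (xs m) j) = ∑ i, root m d i ^ j := by
  rw [show ψ m d (psiOf (xs m) j) = (ψ m d).toRingHom (psiOf (xs m) j) from rfl,
    psiOf_map _ _ (xs_zero m), show (ψ m d).toRingHom ∘ xs m = ((univ : Finset (Fin m)).val.map (root m d)).esymm
      from funext (ψ_xs m d), ← (newton_esymm _).eq_psiOf (esymm_zero' _) j hj, Multiset.map_map]
  rfl

/-- The exponential of a root. -/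
def w (i : Fin m) : QR m d := ev (root_pow m d i) (PowerSeries.exp ℚ)

/-- The ghost components of the universal exterior powers. -/
def ghost (k : ℕ) : A m :=
  (m : A m) + ∑ j ∈ range d, ((k : ℚ) ^ (j + 1) / ((j + 1).factorial : ℚ)) • psiOf (xs m) (j + 1)

/-- The universal exterior powers. -/
def lamU (i : ℕ) : A m := ofPsi (ghost m d) i

/-- The universal Todd class. -/
def tdU : A m := MvPolynomial.aeval (fun i : Fin d => xs m ((i : ℕ) + 1)) (KGr.toddPoly d)

theorem ψ_ghost (k : ℕ) : ψ m d (ghost m d k) = ∑ i, w m d i ^ k := by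
  have h : ∀ i, w m d i ^ k =
      1 + ∑ j ∈ range d, ((k : ℚ) ^ (j + 1) / ((j + 1).factorial : ℚ)) • root m d i ^ (j + 1) := fun i => by
    rw [w, ← map_pow, PowerSeries.exp_pow_eq_rescale_exp, ev_rescale]
  simp only [ghost, map_add, map_natCast, map_sum, map_smul, h, sum_add_distrib]
  rw [show (∑ _i : Fin m, (1 : QR m d)) = (m : QR m d) by simp, sum_comm]
  congr 1
  exact sum_congr rfl fun j _ => by rw [ψ_psiOf m d (by omega), smul_sum]

theorem ψ_lamU (i : ℕ) : ψ m d (lamU m d i) = ((univ : Finset (Fin m)).val.map (w m d)).esymm i := by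
  rw [lamU, show ψ m d (ofPsi (ghost m d) i) = (ψ m d).toRingHom (ofPsi (ghost m d) i) from rfl, ofPsi_map,
    ← ofPsi_powerSum]
  refine ofPsi_congr fun k _ _ => ?_
  rw [Multiset.map_map]
  exact ψ_ghost m d k

theorem ψ_tdU (h : m ≤ d) : ψ m d (tdU m d) = ∏ i, Polynomial.aeval (root m d i) (KGr.toddTrunc d) := by
  obtain ⟨r, rfl⟩ := Nat.exists_eq_add_of_le h
  set y : Fin (m + r) → QR m (m + r) := Fin.addCases (root m (m + r)) (fun _ => 0) with hy
  have he : ∀ n, ((univ : Finset (Fin (m + r))).val.map y).esymm n =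
      ((univ : Finset (Fin m)).val.map (root m (m + r))).esymm n := fun n => by
    rw [← ofPsi_powerSum, ← ofPsi_powerSum]
    refine ofPsi_congr fun k hk _ => ?_
    rw [Multiset.map_map, Multiset.map_map]
    change ∑ i, y i ^ k = ∑ i, root m (m + r) i ^ k
    rw [Fin.sum_univ_add]
    simp [hy, zero_pow (show k ≠ 0 by omega)]
  have h1 : (ψ m (m + r)).comp (MvPolynomial.aeval fun i : Fin (m + r) => xs m ((i : ℕ) + 1)) =
      (MvPolynomial.aeval y).comp
        (MvPolynomial.aeval fun i : Fin (m + r) => MvPolynomial.esymm (Fin (m + r)) ℚ ((i : ℕ) + 1)) := by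
    refine MvPolynomial.algHom_ext fun i => ?_
    simp only [AlgHom.comp_apply, MvPolynomial.aeval_X]
    rw [ψ_xs, MvPolynomial.aeval_esymm_eq_multiset_esymm, he]
  rw [tdU, ← AlgHom.comp_apply, h1, AlgHom.comp_apply, KGr.toddPoly]
  set e := MvPolynomial.esymmAlgEquiv (Fin (m + r)) ℚ (Fintype.card_fin (m + r))
  have h2 : (MvPolynomial.aeval fun i : Fin (m + r) => MvPolynomial.esymm (Fin (m + r)) ℚ ((i : ℕ) + 1))
      (e.symm ⟨_, KGr.isSymmetric_prod_aeval (m + r) (KGr.toddTrunc (m + r))⟩) =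
      ∏ i : Fin (m + r), Polynomial.aeval (MvPolynomial.X i) (KGr.toddTrunc (m + r)) := by
    rw [← MvPolynomial.esymmAlgHom_apply (n := m + r) (σ := Fin (m + r))]
    exact congrArg Subtype.val (e.apply_symm_apply ⟨_, KGr.isSymmetric_prod_aeval (m + r) (KGr.toddTrunc (m + r))⟩)
  rw [h2, map_prod, Fin.prod_univ_add]
  simp [← Polynomial.aeval_algHom_apply, hy, aeval_toddTrunc_zero]

theorem main_identity :
    ψ m d (tdU m d * ∑ i ∈ range (m + 1), (-1) ^ i * lamU m d i) =
      ψ m d ((-1) ^ m * (xs m m * lamU m d m)) := by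
  simp only [map_mul, map_sum, map_pow, map_neg, map_one, ψ_xs, ψ_lamU]
  have h1 : ∑ i ∈ range (m + 1), (-1 : QR m d) ^ i * ((univ : Finset (Fin m)).val.map (w m d)).esymm i =
      (-1) ^ m * ∏ i, (w m d i - 1) := by
    have : ∏ i, (1 + -w m d i) = ∑ t ∈ (univ : Finset (Fin m)).powerset, ∏ i ∈ t, -w m d i := prod_one_add _
    rw [sum_powerset, card_univ, Fintype.card_fin] at this
    rw [← Fintype.card_fin m, ← card_univ, ← prod_const, card_univ, Fintype.card_fin, ← prod_mul_distrib,
      prod_congr rfl (fun i _ => show (-1 : QR m d) * (w m d i - 1) = 1 + -w m d i by ring), this]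
    refine sum_congr rfl fun k _ => ?_
    rw [Finset.esymm_map_val, mul_sum]
    refine sum_congr rfl fun t ht => ?_
    rw [Finset.prod_congr rfl (fun i _ => neg_eq_neg_one_mul (w m d i)), prod_mul_distrib, prod_const,
      (mem_powersetCard.1 ht).2]
  have h2 : ∀ f : Fin m → QR m d, ((univ : Finset (Fin m)).val.map f).esymm m = ∏ i, f i := fun f => by
    rw [Finset.esymm_map_val]
    have : powersetCard m (univ : Finset (Fin m)) = {univ} := by
      simpa using powersetCard_self (univ : Finset (Fin m))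
    rw [this, sum_singleton]
  rw [h1, h2, h2]
  by_cases hmd : m ≤ d
  · rw [ψ_tdU m d hmd]
    have h3 : ∀ i, Polynomial.aeval (root m d i) (KGr.toddTrunc d) * (w m d i - 1) = root m d i * w m d i :=
      fun i => by
        have := congrArg (ev (root_pow m d i)) (bernoulli'PowerSeries_mul_exp_sub_one ℚ)
        rwa [map_mul, map_sub, map_one, map_mul, ev_X, ← aeval_toddTrunc] at this
    rw [mul_left_comm, ← prod_mul_distrib, prod_congr rfl (fun i _ => h3 i), prod_mul_distrib]
  · have hz := prod_root_eq_zero m d (by omega)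
    obtain ⟨q, hq⟩ := (PowerSeries.X_dvd_iff (φ := PowerSeries.exp ℚ - 1)).2 (by simp)
    have h3 : ∀ i, w m d i - 1 = root m d i * ev (root_pow m d i) q := fun i => by
      rw [w, ← map_one (ev (root_pow m d i)), ← map_sub, hq, map_mul, ev_X]
    rw [prod_congr rfl (fun i _ => h3 i), prod_mul_distrib, hz]
    simp

variable {m d} {K : Type u} [CommRing K] [LambdaOps K] {P : PosStructure K}

/-- A class of degree `n`. -/
def InDeg (P : PosStructure K) (n : ℕ) (z : KGr.Gr P) : Prop :=
  ∃ x ∈ gammaFiltration P n, z = KGr.grK P (n : ℤ) x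

theorem InDeg.one : InDeg P 0 1 := ⟨1, mem_gammaFiltration_zero _, grK_zero_one.symm⟩

theorem InDeg.mul {a b : ℕ} {z z' : KGr.Gr P} (h : InDeg P a z) (h' : InDeg P b z') : InDeg P (a + b) (z * z') := by
  obtain ⟨x, hx, rfl⟩ := h
  obtain ⟨y, hy, rfl⟩ := h'
  exact ⟨x * y, mul_mem_gammaFiltration hx hy, grK_mul hx hy⟩

theorem InDeg.pow {a : ℕ} {z : KGr.Gr P} (h : InDeg P a z) : ∀ n : ℕ, InDeg P (n * a) (z ^ n)
  | 0 => by rw [zero_mul, pow_zero]; exact InDeg.one
  | n + 1 => by rw [Nat.succ_mul, pow_succ]; exact (h.pow n).mul h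

variable (P) in
/-- The classes of an element substituted in the universal polynomials. -/
def Φ (m : ℕ) (e : K) : A m →ₐ[ℚ] KGr.Gr P := MvPolynomial.aeval fun i : Fin m => KGr.chern P ((i : ℕ) + 1) e

theorem algHom_psiOf (e : K) (x : ℕ → A m) (h : x 0 = 1) (k : ℕ) :
    Φ P m e (psiOf x k) = psiOf (fun n => Φ P m e (x n)) k :=
  psiOf_map (L := KGr.Gr P) (Φ P m e).toRingHom x h k

theorem algHom_ofPsi (e : K) (x : ℕ → A m) (n : ℕ) :
    Φ P m e (ofPsi x n) = ofPsi (fun k => Φ P m e (x k)) n :=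
  ofPsi_map (L := KGr.Gr P) (Φ P m e).toRingHom x n

theorem Φ_eq_zero (hd : gammaFiltration P (d + 1) = ⊥) (e : K) {a : A m}
    (ha : a ∈ wtIdeal (fun i : Fin m => (i : ℕ) + 1) (d + 1)) : Φ P m e a = 0 := by
  refine RingHom.mem_ker.1 (wtIdeal_le_of_monomial (I := RingHom.ker (Φ P m e)) (fun t ht => ?_) ha)
  rw [RingHom.mem_ker, Φ, MvPolynomial.aeval_monomial, map_one, one_mul]
  have h : InDeg P (Finsupp.weight (fun i : Fin m => (i : ℕ) + 1) t)
      (t.prod fun i n => KGr.chern P ((i : ℕ) + 1) e ^ n) := by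
    classical
    rw [Finsupp.weight_apply, Finsupp.sum, Finsupp.prod]
    induction t.support using Finset.induction_on with
    | empty => simpa using InDeg.one
    | insert i s hi ih =>
      rw [sum_insert hi, prod_insert hi, smul_eq_mul]
      exact InDeg.mul (InDeg.pow ⟨_, redGamma_mem e _, rfl⟩ _) ih
  obtain ⟨x, hx, he⟩ := h
  have h0 := gammaFiltration_antitone (P := P) ht hx
  rw [hd, AddSubgroup.mem_bot] at h0
  rw [he, h0, grK_zero_right]

theorem Φ_eq_of_ψ_eq (hd : gammaFiltration P (d + 1) = ⊥) (e : K) {a b : A m} (h : ψ m d a = ψ m d b) :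
    Φ P m e a = Φ P m e b := by
  rw [← sub_eq_zero, ← map_sub]
  refine Φ_eq_zero hd e ?_
  refine mem_wtIdeal_of_aeval (w' := fun _ : Fin m => 1) (f := fun i : Fin m => MvPolynomial.esymm (Fin m) ℚ ((i : ℕ) + 1))
    (fun i => ?_) (aeval_esymm_injective ℚ le_rfl) (Ideal.Quotient.eq_zero_iff_mem.1 ?_)
  · simpa using isWeightedHomogeneous_rename_esymm_one (R := ℚ) (id : Fin m → Fin m) ((i : ℕ) + 1)
  · show ψ m d (a - b) = 0
    rw [map_sub, h, sub_self]

theorem redGamma_eq_zero {e : K} (he : e ∈ P.pos) {k : ℕ} (hk : (P.aug e).toNat < k) : redGamma P e k = 0 := by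
  have h := P.aug_pos e he
  rw [redGamma, show ((P.aug e : ℤ) : K) = (((P.aug e).toNat : ℕ) : K) by
    conv_lhs => rw [← Int.toNat_of_nonneg h.le]
    rw [Int.cast_natCast]]
  exact gamma_sub_natCast_eq_zero (lam_one_eq_zero_of_pos P)
    (fun j hj => P.lam_eq_zero e he j (by omega)) hk

theorem Φ_xs {e : K} (he : e ∈ P.pos) (k : ℕ) :
    Φ P (P.aug e).toNat e (xs _ k) = KGr.grK P (k : ℤ) (redGamma P e k) := by
  rcases Nat.eq_zero_or_pos k with rfl | hk
  · rw [xs_zero, map_one, redGamma_zero_left, grK_zero_one]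
  obtain ⟨i, rfl⟩ : ∃ i, k = i + 1 := ⟨k - 1, by omega⟩
  by_cases h : i < (P.aug e).toNat
  · rw [xs_succ _ h, Φ, MvPolynomial.aeval_X]
    rfl
  · rw [xs_of_lt _ (by omega), map_zero, redGamma_eq_zero he (by omega), grK_zero_right]

theorem dOp_adams (hK : HasSplitting K P) (j k : ℕ) (x : K) :
    dOp P j (adams P k x) = adams P k (dOp P j x) := by
  show _ = adamsAddHom P k (dOp P j x)
  rw [dOp_apply, dOp_apply, map_sum]
  refine sum_congr rfl fun i _ => ?_
  have hz : ((-1 : K) ^ (j - i) * (j.choose i : K)) = (((-1 : ℤ) ^ (j - i) * (j.choose i : ℤ) : ℤ) : K) := by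
    push_cast; ring
  rw [hz, ← zsmul_eq_mul, ← zsmul_eq_mul, map_zsmul]
  show _ = _ • adams P k (adams P i x)
  rw [adams_adams hK, adams_adams hK, mul_comm i k]

theorem chK_adams (hK : HasSplitting K P) {e : K} (he : e ∈ P.pos) (k : ℕ) :
    KGr.chK P d (adams P k e) = Φ P (P.aug e).toNat e (ghost _ d k) := by
  have h0 : ∀ j : ℕ, KGr.grK P (j : ℤ) (dOp P j (adams P k e)) =
      ((k : KGr.Gr P) ^ j) * KGr.grK P (j : ℤ) (dOp P j e) := fun j => by
    rw [dOp_adams hK, ← Nat.cast_pow, ← grK_natCast_mul _ (dOp_mem hK j e)]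
    refine grK_congr (natCast_mul_mem_gammaFiltration _ (dOp_mem hK j e)) ?_
    rw [Nat.cast_pow]
    exact adams_congr_pow hK (dOp_mem hK j e) k
  rw [chK_eq hK, sum_range_succ', ghost, map_add, map_natCast, map_sum, add_comm]
  congr 1
  · have hm : ((P.aug e : ℤ) : KGr.Gr P) = (((P.aug e).toNat : ℕ) : KGr.Gr P) := by
      conv_lhs => rw [← Int.toNat_of_nonneg (P.aug_pos e he).le]
      rw [Int.cast_natCast]
    rw [h0, pow_zero, one_mul, dOp_zero_left, ← intCast_eq_grK, hm, Nat.factorial_zero, Nat.cast_one,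
      inv_one, one_smul]
  · refine sum_congr rfl fun j _ => ?_
    rw [h0, map_smul, ← map_natCast (algebraMap ℚ (KGr.Gr P)), ← map_pow, ← Algebra.smul_def, smul_smul,
      div_eq_mul_inv, mul_comm]
    congr 1
    rw [algHom_psiOf _ _ (xs_zero _), show (fun n => Φ P (P.aug e).toNat e (xs _ n)) =
        fun n : ℕ => KGr.grK P (n : ℤ) (redGamma P e n) from funext (Φ_xs he),
      psiOf_grK (redGamma_zero_left e) (redGamma_mem e) (Nat.le_add_left 1 j),
      psiOf_redGamma hK (Nat.le_add_left 1 j)]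

theorem tdK_mul_chK_lamAlt_inv (hK : HasSplitting K P) (hd : gammaFiltration P (d + 1) = ⊥)
    {inv : K → K} (hS : HasInvSplitting P inv) {e : K} (he : e ∈ P.pos) :
    KGr.tdK P d e *
        KGr.chK P d (∑ i ∈ range ((P.aug e).toNat + 1), (-1 : K) ^ i * LambdaOps.lam i (inv e)) =
      KGr.chern P (P.aug e).toNat e := by
  set m := (P.aug e).toNat with hm
  let ch : K →+* KGr.Gr P :=
    { chHom P hK d with
      map_one' := chK_one hK d
      map_mul' := chK_mul hK hd }
  have hlam : ∀ i, ch (LambdaOps.lam i e) = Φ P m e (lamU m d i) := fun i => by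
    rw [lamU, algHom_ofPsi]
    refine (((newton_lamSeq e).map (L := KGr.Gr P) ch).eq_ofPsi (by simp [lamSeq_zero']) i).trans (ofPsi_congr fun k hk _ => ?_)
    obtain ⟨r, rfl⟩ : ∃ r, k = r + 1 := ⟨k - 1, by omega⟩
    show KGr.chK P d (adamsOp (r + 1) e) = _
    rw [← adams_succ P, chK_adams hK he]
  have htd : KGr.tdK P d e = Φ P m e (tdU m d) := by
    have hc : ∀ (f : Fin d → A m) (p : MvPolynomial (Fin d) ℚ),
        Φ P m e (MvPolynomial.aeval f p) = MvPolynomial.aeval (fun i => Φ P m e (f i)) p := fun f p =>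
      DFunLike.congr_fun (MvPolynomial.algHom_ext (f := (Φ P m e).comp (MvPolynomial.aeval f))
        (g := MvPolynomial.aeval (fun i => Φ P m e (f i))) fun i => by simp) p
    rw [tdU, hc]
    have hxs : (fun i : Fin d => Φ P m e (xs m ((i : ℕ) + 1))) = fun i : Fin d => KGr.chern P ((i : ℕ) + 1) e :=
      funext fun i => (Φ_xs he _).trans rfl
    rw [hxs]
    rfl
  have h := Φ_eq_of_ψ_eq hd e (main_identity m d)
  simp only [map_mul, map_sum, map_pow, map_neg, map_one, ← htd, ← hlam] at h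
  rw [show Φ P m e (xs m m) = KGr.grK P (m : ℤ) (redGamma P e m) from Φ_xs he m] at h
  have hr := congrArg ch (lamAlt_reflect hS he)
  simp only [map_mul, map_sum, map_pow, map_neg, map_one] at hr
  have hu : IsUnit ((-1 : KGr.Gr P) ^ m * ch (LambdaOps.lam m e)) :=
    (isUnit_one.neg.pow _).mul ((P.isUnit_lam e he).map ch)
  refine hu.mul_right_cancel ?_
  show KGr.tdK P d e * ch _ * _ = KGr.grK P (m : ℤ) (redGamma P e m) * _
  rw [hr] at h
  simp only [map_sum, map_mul, map_pow, map_neg, map_one, hm] at h ⊢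
  linear_combination h

end GrothLib.Lambda.ToddTop20
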